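import Groth.Agent.AzMorita.Descent
import Groth.Agent.S5720
import Mathlib.LinearAlgebra.TensorProduct.Pi
import Mathlib.RingTheory.Flat.Stability
/-! # The `n`-th tensor power of an Azumaya algebra of rank `n²` is an endomorphism algebra -/

universe u v

open scoped TensorProduct

namespace Groth.AzMorita

variable (R : Type u) [CommRing R]

theorem projective_piTensor (A : Type v) [Ring A] [Algebra R A] [Module.Finite R A] [Module.Projective R A] :
    ∀ m : ℕ, Module.Projective R (⨂[R] _ : Fin m, A) ∧ Module.Finite R (⨂[R] _ : Fin m, A)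
  | 0 => ⟨Module.Projective.of_equiv (PiTensorProduct.isEmptyEquiv (Fin 0)).symm,
      Module.Finite.equiv (PiTensorProduct.isEmptyEquiv (Fin 0)).symm⟩
  | m + 1 => by
    obtain ⟨_, _⟩ := projective_piTensor A m
    exact ⟨Module.Projective.of_equiv (CSA.piSuccConst R A m).symm.toLinearEquiv,
      Module.Finite.equiv (CSA.piSuccConst R A m).symm.toLinearEquiv⟩

theorem flat_pi {ι : Type*} [Finite ι] (M : ι → Type u) [∀ i, AddCommGroup (M i)] [∀ i, Module R (M i)]
    [∀ i, Module.Flat R (M i)] : Module.Flat R (∀ i, M i) := by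
  classical
  have := Fintype.ofFinite ι
  exact Module.Flat.of_linearEquiv (DFinsupp.linearEquivFunOnFintype (R := R) (M := M)).symm

/-- An Azumaya algebra of constant rank `n²` is split by a faithfully flat algebra. -/
theorem exists_faithfullyFlat_split (A : Type u) [Ring A] [Algebra R A] [IsAzumaya R A] (n : ℕ)
    (hrk : ∀ p : PrimeSpectrum R, Module.rankAtStalk (R := R) A p = n ^ 2) :
    ∃ (S : Type u) (_ : CommRing S) (_ : Algebra R S), Module.FaithfullyFlat R S ∧
      Nonempty (S ⊗[R] A ≃ₐ[S] Matrix (Fin n) (Fin n) S) := by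
  classical
  have key : ∀ p : PrimeSpectrum R, ∃ f : R, f ∉ p.asIdeal ∧ ∃ (R' : Type u) (_ : CommRing R') (_ : Algebra R R'),
      Module.Flat R R' ∧ (∀ q : PrimeSpectrum R, f ∉ q.asIdeal → q ∈ Set.range (PrimeSpectrum.comap (algebraMap R R'))) ∧
        Nonempty (R' ⊗[R] A ≃ₐ[R'] Matrix (Fin n) (Fin n) R') := by
    intro p
    obtain ⟨f, hf, R', _, _, _, _, -, -, hff, r, -, ⟨e⟩⟩ := Groth.Agent.S5720.result R A p.asIdeal
    have : Module.Flat R (Localization.Away f) := IsLocalization.flat _ (Submonoid.powers f)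
    refine ⟨f, hf, R', inferInstance, inferInstance, Module.Flat.trans R (Localization.Away f) R', fun q hq => ?_, ?_⟩
    · obtain ⟨q', hq'⟩ : q ∈ Set.range (PrimeSpectrum.comap (algebraMap R (Localization.Away f))) := by
        rw [PrimeSpectrum.localization_away_comap_range (Localization.Away f) f]
        exact hq
      obtain ⟨q'', rfl⟩ := PrimeSpectrum.comap_surjective_of_faithfullyFlat (A := Localization.Away f) (B := R') q'
      refine ⟨q'', ?_⟩
      rw [← hq', IsScalarTower.algebraMap_eq R (Localization.Away f) R']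
      rfl
    · rcases subsingleton_or_nontrivial R' with hR' | hR'
      · have : Subsingleton (R' ⊗[R] A) := Module.subsingleton R' _
        exact ⟨{ toFun := fun _ => 0, invFun := fun _ => 0, left_inv := fun _ => Subsingleton.elim _ _,
                 right_inv := fun _ => Subsingleton.elim _ _, map_mul' := fun _ _ => Subsingleton.elim _ _,
                 map_add' := fun _ _ => Subsingleton.elim _ _, commutes' := fun _ => Subsingleton.elim _ _ }⟩
      · obtain ⟨q⟩ : Nonempty (PrimeSpectrum R') := inferInstance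
        have : Module.Free R' (R' ⊗[R] A) := Module.Free.of_equiv e.symm.toLinearEquiv
        have h1 := congrFun (Module.rankAtStalk_eq_finrank_of_free (R := R') (M := R' ⊗[R] A)) q
        rw [Module.rankAtStalk_baseChange, hrk] at h1
        have h2 : n ^ 2 = r ^ 2 := by
          rw [h1]
          simp [e.toLinearEquiv.finrank_eq, Module.finrank_matrix, sq]
        obtain rfl : n = r := Nat.pow_left_injective two_ne_zero h2
        exact ⟨e⟩
  choose f hf R' iR iA hflat hrange hsplit using key
  obtain ⟨t, ht⟩ := isCompact_univ.elim_finite_subcover (fun p : PrimeSpectrum R => (PrimeSpectrum.basicOpen (f p) : Set (PrimeSpectrum R)))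
    (fun p => (PrimeSpectrum.basicOpen (f p)).isOpen) (fun p _ => Set.mem_iUnion.2 ⟨p, hf p⟩)
  let S := ∀ i : t, R' i.1
  have : Module.Flat R S := by
    have : ∀ i : t, Module.Flat R (R' i.1) := fun i => hflat i.1
    exact flat_pi R fun i : t => R' i.1
  refine ⟨S, inferInstance, inferInstance, Module.FaithfullyFlat.of_comap_surjective fun q => ?_, ?_⟩
  · obtain ⟨p, hp, hq⟩ := Set.mem_iUnion₂.1 (ht (Set.mem_univ q))
    obtain ⟨q', hq'⟩ := hrange p q hq
    refine ⟨q'.comap (Pi.evalRingHom (fun i : t => R' i.1) ⟨p, hp⟩), ?_⟩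
    rw [← hq']
    rfl
  · let χ : ∀ i : t, R' i.1 ⊗[R] A ≃ₐ[R' i.1] Matrix (Fin n) (Fin n) (R' i.1) := fun i => (hsplit i.1).some
    let g : A →ₐ[R] Matrix (Fin n) (Fin n) S :=
      { toFun := fun a => Matrix.of fun p q i => χ i (1 ⊗ₜ a) p q
        map_one' := by
          ext p q i
          simp only [Matrix.of_apply, ← Algebra.TensorProduct.one_def, map_one, Matrix.one_apply]
          split_ifs <;> rfl
        map_mul' := fun a b => by
          ext p q i
          have h : (1 : R' i.1) ⊗ₜ[R] (a * b) = ((1 : R' i.1) ⊗ₜ[R] a) * ((1 : R' i.1) ⊗ₜ[R] b) := by simp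
          simp only [Matrix.of_apply, h, map_mul, Matrix.mul_apply]
          exact (Finset.sum_apply i _ (fun x (j : t) => χ j (1 ⊗ₜ a) p x * χ j (1 ⊗ₜ b) x q)).symm
        map_zero' := by ext p q i; simp; rfl
        map_add' := fun a b => by ext p q i; simp [TensorProduct.tmul_add]; rfl
        commutes' := fun r => by
          ext p q i
          have h : (1 : R' i.1) ⊗ₜ[R] (algebraMap R A r) = algebraMap (R' i.1) (R' i.1 ⊗[R] A) (algebraMap R (R' i.1) r) := by
            rw [Algebra.TensorProduct.algebraMap_apply, Algebra.algebraMap_self, RingHom.id_apply,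
              Algebra.algebraMap_eq_smul_one, TensorProduct.tmul_smul, TensorProduct.smul_tmul',
              ← Algebra.algebraMap_eq_smul_one]
          simp only [Matrix.of_apply, h, AlgEquiv.commutes, Matrix.algebraMap_matrix_apply]
          split_ifs <;> rfl }
    let Φ : S ⊗[R] A →ₐ[S] Matrix (Fin n) (Fin n) S :=
      Algebra.TensorProduct.lift (Algebra.ofId S _) g fun s _ => Algebra.commute_algebraMap_left s _
    have hval : ∀ (z : S ⊗[R] A) (i : t) (p q : Fin n),
        Φ z p q i = χ i (TensorProduct.piLeft R A (fun i : t => R' i.1) z i) p q := by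
      intro z i p q
      induction z using TensorProduct.induction_on with
      | zero =>
        rw [map_zero, map_zero]
        show (0 : R' i.1) = χ i (0 : R' i.1 ⊗[R] A) p q
        rw [map_zero]
        rfl
      | add a b ha hb =>
        rw [map_add, map_add]
        show Φ a p q i + Φ b p q i = χ i (TensorProduct.piLeft R A (fun i : t => R' i.1) a i +
          TensorProduct.piLeft R A (fun i : t => R' i.1) b i) p q
        rw [ha, hb, map_add]
        rfl
      | tmul s a =>
        have h : (s i) ⊗ₜ[R] a = s i • ((1 : R' i.1) ⊗ₜ[R] a) := by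
          rw [TensorProduct.smul_tmul', smul_eq_mul, mul_one]
        rw [show TensorProduct.piLeft R A (fun i : t => R' i.1) (s ⊗ₜ a) i = (s i) ⊗ₜ[R] a by simp, h, map_smul]
        show (algebraMap S (Matrix (Fin n) (Fin n) S) s * g a) p q i = _
        rw [← Algebra.smul_def]
        rfl
    refine ⟨AlgEquiv.ofBijective Φ ⟨fun a b h => ?_, fun M => ?_⟩⟩
    · refine (TensorProduct.piLeft R A (fun i : t => R' i.1)).injective (funext fun i => (χ i).injective ?_)
      ext p q
      rw [← hval, ← hval, h]
    · refine ⟨(TensorProduct.piLeft R A (fun i : t => R' i.1)).symm fun i => (χ i).symm (M.map fun s => s i), ?_⟩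
      ext p q i
      rw [hval, LinearEquiv.apply_symm_apply, AlgEquiv.apply_symm_apply]
      rfl

/-- The module of the antisymmetriser realises the tensor power as an endomorphism algebra. -/
theorem exists_end (A : Type u) [Ring A] [Algebra R A] [IsAzumaya R A] (n : ℕ) (hn : 0 < n)
    (hrk : ∀ p : PrimeSpectrum R, Module.rankAtStalk (R := R) A p = n ^ 2) :
    ∃ (E : Type u) (_ : AddCommGroup E) (_ : Module R E), Module.Finite R E ∧ Module.Projective R E ∧
      (∀ p : PrimeSpectrum R, Module.rankAtStalk (R := R) E p = n ^ n) ∧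
      Nonempty ((⨂[R] _ : Fin n, A) ≃ₐ[R] Module.End R E) := by
  classical
  obtain ⟨S, _, _, hff, ⟨φ⟩⟩ := exists_faithfullyFlat_split R A n hrk
  let T := ⨂[R] _ : Fin n, A
  obtain ⟨hTp, hTf⟩ := projective_piTensor R A n
  obtain ⟨s, hs⟩ := exists_antisym_element hn φ
  let Ψ : S ⊗[R] T ≃ₐ[S] Matrix (Fin n → Fin n) (Fin n → Fin n) S :=
    AlgEquiv.ofBijective _ (tensorRepLift_bijective (m := n) φ)
  have hΨs : Ψ ((1 : S) ⊗ₜ[R] s) = antisym := hs
  let u : (Fin n → Fin n) → S := signVec
  have hu : u id = 1 := signVec_id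
  -- a quasi-inverse of the antisymmetriser descends
  let Λ : T →ₗ[R] T := LinearMap.mulRight R s ∘ₗ LinearMap.mulLeft R s
  obtain ⟨y, hy⟩ : ∃ y : T, s * y * s = s := by
    suffices hmem : s ∈ LinearMap.range Λ from hmem
    let π := (LinearMap.range Λ).mkQ
    have hker : π.lTensor S ((1 : S) ⊗ₜ[R] s) = 0 := by
      obtain ⟨w, hw⟩ := Ψ.surjective (Matrix.single (id : Fin n → Fin n) id (1 : S))
      have h1 : ((1 : S) ⊗ₜ[R] s) * w * ((1 : S) ⊗ₜ[R] s) = (1 : S) ⊗ₜ[R] s := Ψ.injective (by
        rw [map_mul, map_mul, hΨs, hw]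
        ext f g
        simp only [antisym, Matrix.mul_apply, Matrix.single_apply, Matrix.vecMulVec_apply]
        simp [ite_and, hu, u, signVec_id])
      have h2 : Λ.lTensor S w = ((1 : S) ⊗ₜ[R] s) * w * ((1 : S) ⊗ₜ[R] s) := by
        clear h1 hw
        induction w using TensorProduct.induction_on with
        | zero => simp
        | add a b ha hb => rw [map_add, ha, hb, mul_add, add_mul]
        | tmul r x => simp [Λ, mul_assoc]
      rw [← h1, ← h2, ← LinearMap.comp_apply, ← LinearMap.lTensor_comp,
        show π ∘ₗ Λ = 0 from LinearMap.ext fun x => (Submodule.Quotient.mk_eq_zero _).2 ⟨x, rfl⟩]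
      simp
    rw [LinearMap.lTensor_tmul] at hker
    have := (Module.FaithfullyFlat.one_tmul_eq_zero_iff R (T ⧸ LinearMap.range Λ) (A := S) _).1 hker
    exact (Submodule.Quotient.mk_eq_zero _).1 this
  let e : T := y * s
  have hee : e * e = e := by
    show y * s * (y * s) = y * s
    conv_rhs => rw [← hy]
    simp only [mul_assoc]
  let E : Submodule R T := LinearMap.range (LinearMap.mulRight R e)
  let pr : T →ₗ[R] E := (LinearMap.mulRight R e).rangeRestrict
  have hpr : pr ∘ₗ E.subtype = LinearMap.id := by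
    refine LinearMap.ext fun ⟨x, w, hw⟩ => Subtype.ext ?_
    subst hw
    show w * e * e = w * e
    rw [mul_assoc, hee]
  have hEp : Module.Projective R E := Module.Projective.of_split E.subtype pr hpr
  have hEf : Module.Finite R E := Module.Finite.of_surjective pr fun ⟨x, w, hw⟩ => ⟨w, Subtype.ext hw⟩
  let act : T →ₐ[R] Module.End R E :=
    { toFun := fun t =>
        { toFun := fun x => ⟨t * x.1, by
            obtain ⟨w, hw⟩ := x.2
            exact ⟨t * w, by rw [LinearMap.mulRight_apply, mul_assoc, ← LinearMap.mulRight_apply R e, hw]⟩⟩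
          map_add' := fun x x' => Subtype.ext (mul_add _ _ _)
          map_smul' := fun r x => Subtype.ext (mul_smul_comm _ _ _) }
      map_one' := LinearMap.ext fun x => Subtype.ext (one_mul _)
      map_mul' := fun a b => LinearMap.ext fun x => Subtype.ext (mul_assoc _ _ _)
      map_zero' := LinearMap.ext fun x => Subtype.ext (zero_mul _)
      map_add' := fun a b => LinearMap.ext fun x => Subtype.ext (add_mul _ _ _)
      commutes' := fun r => LinearMap.ext fun x => Subtype.ext (Algebra.smul_def r (x : T)).symm }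
  -- over `S`, the module is the column space
  let ι : S ⊗[R] E →ₗ[S] S ⊗[R] T := E.subtype.baseChange S
  have hιinj : Function.Injective ι := Function.LeftInverse.injective (g := pr.baseChange S) fun w => by
    rw [← LinearMap.comp_apply, ← LinearMap.baseChange_comp, hpr, LinearMap.baseChange_id]; rfl
  let Y := Ψ ((1 : S) ⊗ₜ[R] y)
  have hΨe : Ψ ((1 : S) ⊗ₜ[R] e) = Matrix.vecMulVec (Y.mulVec u) u := by
    rw [show (1 : S) ⊗ₜ[R] e = ((1 : S) ⊗ₜ[R] y) * ((1 : S) ⊗ₜ[R] s) by simp [e], map_mul, hΨs, antisym,
      Matrix.mul_vecMulVec]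
  have huY : dotProduct u (Y.mulVec u) = 1 := by
    have h := congrArg (fun M : Matrix (Fin n → Fin n) (Fin n → Fin n) S => M id id) (show antisym * Y * antisym = antisym by
      rw [← hΨs, ← map_mul, ← map_mul]
      simp [hy])
    rw [mul_assoc] at h
    simp only [antisym, Matrix.mul_vecMulVec, Matrix.vecMulVec_mul, Matrix.vecMulVec_apply, Matrix.vecMulVec_mulVec,
      Pi.smul_apply, smul_eq_mul, signVec_id, mul_one] at h
    simpa [u, signVec_id] using h
  have hfix : ∀ w, (ι w) * ((1 : S) ⊗ₜ[R] e) = ι w := fun w => by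
    induction w using TensorProduct.induction_on with
    | zero => simp
    | add a b ha hb => rw [map_add, add_mul, ha, hb]
    | tmul r x =>
      obtain ⟨z, hz⟩ := x.2
      show (r ⊗ₜ[R] (x : T)) * ((1 : S) ⊗ₜ[R] e) = r ⊗ₜ[R] (x : T)
      rw [Algebra.TensorProduct.tmul_mul_tmul, mul_one, ← hz, LinearMap.mulRight_apply, mul_assoc, hee]
  let col : S ⊗[R] E →ₗ[S] ((Fin n → Fin n) → S) :=
    (LinearMap.pi fun f => Matrix.entryLinearMap S S f id) ∘ₗ Ψ.toLinearMap ∘ₗ ι
  have hcol : ∀ w, Ψ (ι w) = Matrix.vecMulVec (col w) u := by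
    intro w
    have h : Ψ (ι w) = Matrix.vecMulVec ((Ψ (ι w)).mulVec (Y.mulVec u)) u := by
      conv_lhs => rw [← hfix w, map_mul, hΨe, Matrix.mul_vecMulVec]
    have hc : col w = (Ψ (ι w)).mulVec (Y.mulVec u) := by
      funext f
      show Ψ (ι w) f id = _
      conv_lhs => rw [h]
      rw [Matrix.vecMulVec_apply, hu, mul_one]
    rw [hc]
    exact h
  have hcolbij : Function.Bijective col := by
    refine ⟨fun a b h => hιinj (Ψ.injective (by rw [hcol, hcol, h])), fun x => ?_⟩
    let z := Ψ.symm (Matrix.vecMulVec x u)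
    refine ⟨pr.baseChange S z, ?_⟩
    have h1 : ∀ z : S ⊗[R] T, ι (pr.baseChange S z) = z * ((1 : S) ⊗ₜ[R] e) := fun z => by
      induction z using TensorProduct.induction_on with
      | zero => simp
      | add a b ha hb => rw [map_add, map_add, ha, hb, add_mul]
      | tmul r x => simp [ι, pr]
    funext f
    show Ψ (ι (pr.baseChange S z)) f id = x f
    rw [h1, map_mul, Ψ.apply_symm_apply, hΨe, Matrix.mul_vecMulVec, Matrix.vecMulVec_mulVec, huY,
      Matrix.vecMulVec_apply, hu, mul_one]
    simp
  let γ : (S ⊗[R] E) ≃ₗ[S] ((Fin n → Fin n) → S) := LinearEquiv.ofBijective col hcolbij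
  -- bijectivity after base change
  let θ : S ⊗[R] T →ₗ[S] Module.End S (S ⊗[R] E) :=
    LinearMap.tensorProduct R S E E ∘ₗ act.toLinearMap.baseChange S
  have hθ : ∀ z w, Ψ (ι (θ z w)) = Ψ z * Ψ (ι w) := by
    intro z w
    rw [← map_mul]
    congr 1
    induction z using TensorProduct.induction_on with
    | zero => simp
    | add a b ha hb => rw [map_add, LinearMap.add_apply, map_add, ha, hb, add_mul]
    | tmul r t =>
      induction w using TensorProduct.induction_on with
      | zero => simp
      | add a b ha hb => rw [map_add, map_add, ha, hb, map_add, mul_add]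
      | tmul r' x =>
        simp [θ, ι, act, LinearMap.tensorProduct, TensorProduct.smul_tmul']
  have hθbij : Function.Bijective θ := by
    have hconj : ∀ z w, γ (θ z w) = (Ψ z).mulVec (γ w) := by
      intro z w
      funext f
      show Ψ (ι (θ z w)) f id = _
      rw [hθ, hcol, Matrix.mul_vecMulVec, Matrix.vecMulVec_apply, hu, mul_one]
      rfl
    have e1 : ∀ z, θ z = γ.symm.conj (Matrix.toLin' (Ψ z)) := fun z => LinearMap.ext fun w => γ.injective (by
      rw [hconj, LinearEquiv.conj_apply_apply, LinearEquiv.symm_symm, LinearEquiv.apply_symm_apply, Matrix.toLin'_apply])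
    have : ⇑θ = ⇑γ.symm.conj ∘ ⇑(Matrix.toLin' : Matrix (Fin n → Fin n) (Fin n → Fin n) S ≃ₗ[S] _) ∘ ⇑Ψ := funext e1
    rw [this]
    exact γ.symm.conj.bijective.comp (Matrix.toLin'.bijective.comp Ψ.bijective)
  have hactbij : Function.Bijective act := by
    have hff' := Module.FaithfullyFlat.lTensor_bijective_iff_bijective R S (N := T) (N' := Module.End R E)
    refine (hff' act.toLinearMap).1 ?_
    exact (Function.Bijective.of_comp_iff' (Azum.tensorProduct_bijective R S E E) _).1 hθbij
  refine ⟨E, inferInstance, inferInstance, hEf, hEp, fun p => ?_, ⟨AlgEquiv.ofBijective act hactbij⟩⟩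
  obtain ⟨q, hq⟩ := PrimeSpectrum.comap_surjective_of_faithfullyFlat (A := R) (B := S) p
  have : Nontrivial S := q.nontrivial
  have : Module.Free S (S ⊗[R] E) := Module.Free.of_equiv γ.symm
  rw [← hq, ← Module.rankAtStalk_baseChange, Module.rankAtStalk_eq_finrank_of_free]
  simp [γ.finrank_eq]

end Groth.AzMorita
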